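import Cfsg.Agent.H582.Sq.ChainN
import Cfsg.Agent.H53.HC.ExcIM

/-!
# S4844, rows `E₇(q)` and `E₈(q)` (task 3588): a character degree divisible by `p ^ 2`, `p` odd

* `A₇ < E₈` : degree `a (q² - 1)(q¹² - 1)(q¹⁴ - 1)(q¹⁸ - 1)(q²⁰ - 1)(q²⁴ - 1)(q³⁰ - 1) / t`, `t ∣ 8`;
* `A₆ < E₇` : degree `a ∏ (q^d - 1) / ((q⁷ - 1) t)`, `t ∣ gcd(7, q - 1)`;
* the index of the parabolic subgroup of all nodes but the branch node if `p ∣ q⁸ - 1`, `p ∤ q⁴ - 1` (resp.
  `p ∣ q⁷ - 1`, `p ∤ q - 1`).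
-/

set_option autoImplicit false
set_option linter.unusedSectionVars false

namespace Cfsg.Agent.H582.Sq

open Cfsg Cfsg.Agent.H53.HC Cfsg.Agent.H53.HC.ExcIM Cfsg.Agent.H53.HC.ExcRows Cfsg.Agent.H35.ExcIdx
  Cfsg.Agent.H35.PoinNum Cfsg.Agent.H35.Poin Cfsg.Lie Cfsg.Agent.Nodes Cfsg.Agent.Nodes.RGDChev
open CoxeterSystem Cfsg.Agent.ChevalleyStructure Cfsg.Agent.ChevalleyStructure.Elts
  Cfsg.Agent.ChevalleyStructure.RootVec Cfsg.Agent.ChevalleyStructure.RootVecTab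
  Cfsg.Agent.ChevalleyStructure.NPerm Cfsg.Agent.ChevalleyStructure.CoxeterGeomTypes
open Cfsg.Agent.ChevalleyStructure.CoxeterGeom Cfsg.Agent.Tits.Roots Cfsg.Agent.Tits.Core
  Cfsg.Agent.Tits.Exchange Cfsg.Agent.Nodes.Reps Cfsg.Agent.Nodes.BNOf Cfsg.Agent.Nodes.StabComb
  Cfsg.Agent.Nodes.Bruhat Cfsg.Agent.Nodes.OppDec Cfsg.Agent.Nodes.LeviDec

universe u

/-- the chain of all nodes of `E₈` but `1` -/
def c8 : Fin 7 ↪ Fin 8 := ⟨![0, 2, 3, 4, 5, 6, 7], by decide⟩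
/-- the chain of all nodes of `E₇` but `1` -/
def c7 : Fin 6 ↪ Fin 7 := ⟨![0, 2, 3, 4, 5, 6], by decide⟩

theorem range_c8 : Set.range c8 = {i | i ≠ 1} := by
  ext x
  simp only [Set.mem_range, Set.mem_ofPred_eq]
  revert x; decide

theorem range_c7 : Set.range c7 = {i | i ≠ 1} := by
  ext x
  simp only [Set.mem_range, Set.mem_ofPred_eq]
  revert x; decide

theorem hc8 : ∀ i j, m8 (c8 i) (c8 j) = mA 7 i j := by decide +kernel
theorem hc7 : ∀ i j, m7 (c7 i) (c7 j) = mA 6 i j := by decide +kernel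

/-- the Cartan matrix of `E₈` -/
def A8 (i j : Fin 8) : ℤ := cartanOf chevE8 8 i j
/-- the Cartan matrix of `E₇` -/
def A7 (i j : Fin 7) : ℤ := cartanOf chevE7 7 i j

theorem hA8 : ∀ i j : Fin 7, A8 (c8 i) (c8 j) = -1 ↔ i.val + 1 = j.val ∨ j.val + 1 = i.val := by decide +kernel
theorem hA7 : ∀ i j : Fin 6, A7 (c7 i) (c7 j) = -1 ↔ i.val + 1 = j.val ∨ j.val + 1 = i.val := by decide +kernel

theorem tab8 : ∀ i j, A8 i j = (![![2, 0, -1, 0, 0, 0, 0, 0], ![0, 2, 0, -1, 0, 0, 0, 0], ![-1, 0, 2, -1, 0, 0, 0, 0],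
    ![0, -1, -1, 2, -1, 0, 0, 0], ![0, 0, 0, -1, 2, -1, 0, 0], ![0, 0, 0, 0, -1, 2, -1, 0],
    ![0, 0, 0, 0, 0, -1, 2, -1], ![0, 0, 0, 0, 0, 0, -1, 2]] : Fin 8 → Fin 8 → ℤ) i j := by decide +kernel

theorem tab7 : ∀ i j, A7 i j = (![![2, 0, -1, 0, 0, 0, 0], ![0, 2, 0, -1, 0, 0, 0], ![-1, 0, 2, -1, 0, 0, 0],
    ![0, -1, -1, 2, -1, 0, 0], ![0, 0, 0, -1, 2, -1, 0], ![0, 0, 0, 0, -1, 2, -1],
    ![0, 0, 0, 0, 0, -1, 2]] : Fin 7 → Fin 7 → ℤ) i j := by decide +kernel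

section rev

/-- **`E₈`** -/
theorem rev8 {w : CoxeterMatrix.E₈.Group}
    (hw : Perm CoxeterMatrix.E₈.toCoxeterSystem hpE8.isCartan (Set.range c8) w)
    (hwJ : w ∉ WJ CoxeterMatrix.E₈.toCoxeterSystem (Set.range c8)) (i : Fin 7) :
    rep CoxeterMatrix.E₈.toCoxeterSystem hpE8.isCartan w (sr (c8 i)) = sr (c8 (Fin.rev i)) := by
  have hfin : Finite CoxeterMatrix.E₈.Group := finite_W hpE8 CoxeterMatrix.E₈.toCoxeterSystem
  rcases fix_or_rev (A := cartanOf chevE8 8) (h := hpE8.isCartan) (by norm_num) c8 hA8 hw with h1 | h1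
  · exfalso
    have hJ : ∀ i, i ∈ Set.range c8 ↔ i ≠ 1 := fun i => by rw [range_c8]; rfl
    have h2 := apply_eq_neg hJ hw hwJ (sr 1)
    rw [sr_self] at h2
    obtain ⟨y, hy⟩ : ∃ y, y = rep CoxeterMatrix.E₈.toCoxeterSystem hpE8.isCartan w (sr 1) := ⟨_, rfl⟩
    have h3 : ∀ i : Fin 7, ∑ c, A8 (c8 i) c * y c = A8 (c8 i) 1 := by
      intro i
      have h4 := pairing_rep (A := cartanOf chevE8 8) (h := hpE8.isCartan) (h1 i) (sr 1)
      rw [← hy] at h4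
      rw [sr, pairing_single, mul_one] at h4
      exact h4
    rw [← hy] at h2
    simp only [Fin.sum_univ_eight, tab8] at h3
    have e0 := h3 0
    have e1 := h3 1
    have e2 := h3 2
    have e3 := h3 3
    have e4 := h3 4
    have e5 := h3 5
    have e6 := h3 6
    simp [c8] at e0 e1 e2 e3 e4 e5 e6
    omega
  · exact h1 i

/-- **`E₇`** -/
theorem rev7 {w : CoxeterMatrix.E₇.Group}
    (hw : Perm CoxeterMatrix.E₇.toCoxeterSystem hpE7.isCartan (Set.range c7) w)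
    (hwJ : w ∉ WJ CoxeterMatrix.E₇.toCoxeterSystem (Set.range c7)) (i : Fin 6) :
    rep CoxeterMatrix.E₇.toCoxeterSystem hpE7.isCartan w (sr (c7 i)) = sr (c7 (Fin.rev i)) := by
  have hfin : Finite CoxeterMatrix.E₇.Group := finite_W hpE7 CoxeterMatrix.E₇.toCoxeterSystem
  rcases fix_or_rev (A := cartanOf chevE7 7) (h := hpE7.isCartan) (by norm_num) c7 hA7 hw with h1 | h1
  · exfalso
    have hJ : ∀ i, i ∈ Set.range c7 ↔ i ≠ 1 := fun i => by rw [range_c7]; rfl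
    have h2 := apply_eq_neg hJ hw hwJ (sr 1)
    rw [sr_self] at h2
    obtain ⟨y, hy⟩ : ∃ y, y = rep CoxeterMatrix.E₇.toCoxeterSystem hpE7.isCartan w (sr 1) := ⟨_, rfl⟩
    have h3 : ∀ i : Fin 6, ∑ c, A7 (c7 i) c * y c = A7 (c7 i) 1 := by
      intro i
      have h4 := pairing_rep (A := cartanOf chevE7 7) (h := hpE7.isCartan) (h1 i) (sr 1)
      rw [← hy] at h4
      rw [sr, pairing_single, mul_one] at h4
      exact h4
    rw [← hy] at h2
    simp only [Fin.sum_univ_seven, tab7] at h3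
    have e0 := h3 0
    have e1 := h3 1
    have e2 := h3 2
    have e3 := h3 3
    have e4 := h3 4
    have e5 := h3 5
    simp [c7] at e0 e1 e2 e3 e4 e5
    omega
  · exact h1 i

end rev

section idx

variable {K : Type u} [Field K] [Fintype K] {r f : ℕ} (hr : r.Prime) (hf : f ≠ 0)
  (hK : Fintype.card K = r ^ f) [CharP K r]

theorem path8 : PathOK CoxeterMatrix.E₈ [0, 2, 3, 4, 5, 6, 7] [0, 2, 3, 4, 5, 6, 7] [] 0 := by
  constructor <;> decide +kernel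
theorem path7 : PathOK CoxeterMatrix.E₇ [0, 2, 3, 4, 5, 6] [0, 2, 3, 4, 5, 6] [] 0 := by
  constructor <;> decide +kernel

include hr hf hK in
/-- the index of the parabolic subgroup of type `A₇` -/
theorem idx8 : (PJ CoxeterMatrix.E₈.toCoxeterSystem hpE8.isCartan (TT chevE8 K) (XX chevE8 8 K) (Set.range c8)).index *
    ((r ^ f - 1) * ∏ i ∈ Finset.range 7, ((r ^ f) ^ (i + 2) - 1)) = pr (r ^ f) [2, 8, 12, 14, 18, 20, 24, 30] := by
  have hJ : Set.range c8 = {j | j ∈ ([0, 2, 3, 4, 5, 6, 7] : List (Fin 8))} := by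
    rw [range_c8]
    ext j; revert j; decide
  have h2 := two_le hr hf
  have hfin := finite_W hpE8 CoxeterMatrix.E₈.toCoxeterSystem
  have := finite_group (K := K) chevE8
  have D := data_E8_3 hr hf hK
  rw [hJ]
  have h1 := index_split hpE8 K hr hf hK CoxeterMatrix.E₈.toCoxeterSystem (d := 1) (N := FA 7 (r ^ f) * 1)
    (P := pr (r ^ f) [2, 8, 12, 14, 18, 20, 24, 30]) (not_dvd_of_dvd hr hf (one_dvd _))
    (by rw [← hK]; exact Cfsg.Agent.S1035.result rfl (chevE8, 1) (by simp))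
    ⟨f * 120, by
      have h3 := Cfsg.Agent.S1065.result hK
      rw [pow_mul]
      simp only [pr_cons, pr_nil]
      rw [one_mul, h3]
      ring⟩ (not_dvd_pr hr hf _ (by simp)) (card_step D.rgd path8 (fun i _ => D.size i) (card_nil D.rgd))
  rw [← h1, ← mul_poin (show 1 ≤ r ^ f by omega) 7]
  unfold FA
  ring

include hr hf hK in
/-- the index of the parabolic subgroup of type `A₆` -/
theorem idx7 : (PJ CoxeterMatrix.E₇.toCoxeterSystem hpE7.isCartan (TT chevE7 K) (XX chevE7 7 K) (Set.range c7)).index *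
    ((r ^ f - 1) * ∏ i ∈ Finset.range 6, ((r ^ f) ^ (i + 2) - 1)) = pr (r ^ f) [2, 6, 8, 10, 12, 14, 18] := by
  have hJ : Set.range c7 = {j | j ∈ ([0, 2, 3, 4, 5, 6] : List (Fin 7))} := by
    rw [range_c7]
    ext j; revert j; decide
  have h2 := two_le hr hf
  have hfin := finite_W hpE7 CoxeterMatrix.E₇.toCoxeterSystem
  have := finite_group (K := K) chevE7
  have D := data_E7_3 hr hf hK
  rw [hJ]
  have h1 := index_split hpE7 K hr hf hK CoxeterMatrix.E₇.toCoxeterSystem (d := Nat.gcd 2 (r ^ f - 1))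
    (N := FA 6 (r ^ f) * 1)
    (P := pr (r ^ f) [2, 6, 8, 10, 12, 14, 18]) (not_dvd_of_dvd hr hf (Nat.gcd_dvd_right _ _))
    (by rw [← hK]; exact Cfsg.Agent.S1035.result rfl (chevE7, Nat.gcd 2 (Fintype.card K - 1)) (by simp))
    ⟨f * 63, by
      have h3 := Cfsg.Agent.S1064.result hK
      rw [pow_mul]
      simp only [pr_cons, pr_nil]
      rw [h3]
      ring⟩ (not_dvd_pr hr hf _ (by simp)) (card_step D.rgd path7 (fun i _ => D.size i) (card_nil D.rgd))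
  rw [← h1, ← mul_poin (show 1 ≤ r ^ f by omega) 6]
  unfold FA
  ring

include hr hf hK in
/-- the index of the parabolic subgroup of all nodes but `3` -/
theorem idx8' : (PJ CoxeterMatrix.E₈.toCoxeterSystem hpE8.isCartan (TT chevE8 K) (XX chevE8 8 K) {j | j ≠ 3}).index *
    pr (r ^ f) [1, 2, 3, 2, 2, 3, 4, 5] = pr (r ^ f) [2, 8, 12, 14, 18, 20, 24, 30] := by
  have hJ : ({j | j ≠ 3} : Set (Fin 8)) = {j | j ∈ ([0, 1, 2, 4, 5, 6, 7] : List (Fin 8))} := by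
    ext j; revert j; decide
  have h2 := two_le hr hf
  have hfin := finite_W hpE8 CoxeterMatrix.E₈.toCoxeterSystem
  have := finite_group (K := K) chevE8
  have D := data_E8_3 hr hf hK
  rw [hJ]
  have h1 := index_split hpE8 K hr hf hK CoxeterMatrix.E₈.toCoxeterSystem (d := 1)
    (N := FA 2 (r ^ f) * (FA 1 (r ^ f) * (FA 4 (r ^ f) * 1)))
    (P := pr (r ^ f) [2, 8, 12, 14, 18, 20, 24, 30]) (not_dvd_of_dvd hr hf (one_dvd _))
    (by rw [← hK]; exact Cfsg.Agent.S1035.result rfl (chevE8, 1) (by simp))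
    ⟨f * 120, by
      have h3 := Cfsg.Agent.S1065.result hK
      rw [pow_mul]
      simp only [pr_cons, pr_nil]
      rw [one_mul, h3]
      ring⟩ (not_dvd_pr hr hf _ (by simp)) (card_step D.rgd path_E8_3_0 (fun i _ => D.size i)
        (card_step D.rgd path_E8_3_1 (fun i _ => D.size i) (card_step D.rgd path_E8_3_2 (fun i _ => D.size i)
          (card_nil D.rgd))))
  rw [← h1]
  have e1 := mul_poin (show 1 ≤ r ^ f by omega) 1
  have e2 := mul_poin (show 1 ≤ r ^ f by omega) 2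
  have e4 := mul_poin (show 1 ≤ r ^ f by omega) 4
  have e : pr (r ^ f) [1, 2, 3, 2, 2, 3, 4, 5] = (r ^ f - 1) ^ 1 * ((∏ i ∈ Finset.range 2, ((r ^ f) ^ (i + 2) - 1)) * (∏ i ∈ Finset.range 1, ((r ^ f) ^ (i + 2) - 1)) * (∏ i ∈ Finset.range 4, ((r ^ f) ^ (i + 2) - 1))) := by
    simp only [pr_cons, pr_nil, Finset.prod_range_succ, Finset.prod_range_zero, pow_one]
    ring
  rw [e, ← e1, ← e2, ← e4]
  unfold FA
  ring

include hr hf hK in
/-- the index of the parabolic subgroup of all nodes but `3` -/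
theorem idx7' : (PJ CoxeterMatrix.E₇.toCoxeterSystem hpE7.isCartan (TT chevE7 K) (XX chevE7 7 K) {j | j ≠ 3}).index *
    pr (r ^ f) [1, 2, 3, 2, 2, 3, 4] = pr (r ^ f) [2, 6, 8, 10, 12, 14, 18] := by
  have hJ : ({j | j ≠ 3} : Set (Fin 7)) = {j | j ∈ ([0, 1, 2, 4, 5, 6] : List (Fin 7))} := by
    ext j; revert j; decide
  have h2 := two_le hr hf
  have hfin := finite_W hpE7 CoxeterMatrix.E₇.toCoxeterSystem
  have := finite_group (K := K) chevE7
  have D := data_E7_3 hr hf hK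
  rw [hJ]
  have h1 := index_split hpE7 K hr hf hK CoxeterMatrix.E₇.toCoxeterSystem (d := Nat.gcd 2 (r ^ f - 1))
    (N := FA 2 (r ^ f) * (FA 1 (r ^ f) * (FA 3 (r ^ f) * 1)))
    (P := pr (r ^ f) [2, 6, 8, 10, 12, 14, 18]) (not_dvd_of_dvd hr hf (Nat.gcd_dvd_right _ _))
    (by rw [← hK]; exact Cfsg.Agent.S1035.result rfl (chevE7, Nat.gcd 2 (Fintype.card K - 1)) (by simp))
    ⟨f * 63, by
      have h3 := Cfsg.Agent.S1064.result hK
      rw [pow_mul]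
      simp only [pr_cons, pr_nil]
      rw [h3]
      ring⟩ (not_dvd_pr hr hf _ (by simp)) (card_step D.rgd path_E7_3_0 (fun i _ => D.size i)
        (card_step D.rgd path_E7_3_1 (fun i _ => D.size i) (card_step D.rgd path_E7_3_2 (fun i _ => D.size i)
          (card_nil D.rgd))))
  rw [← h1]
  have e1 := mul_poin (show 1 ≤ r ^ f by omega) 1
  have e2 := mul_poin (show 1 ≤ r ^ f by omega) 2
  have e3 := mul_poin (show 1 ≤ r ^ f by omega) 3
  have e : pr (r ^ f) [1, 2, 3, 2, 2, 3, 4] = (r ^ f - 1) ^ 1 * ((∏ i ∈ Finset.range 2, ((r ^ f) ^ (i + 2) - 1)) * (∏ i ∈ Finset.range 1, ((r ^ f) ^ (i + 2) - 1)) * (∏ i ∈ Finset.range 3, ((r ^ f) ^ (i + 2) - 1))) := by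
    simp only [pr_cons, pr_nil, Finset.prod_range_succ, Finset.prod_range_zero, pow_one]
    ring
  rw [e, ← e1, ← e2, ← e3]
  unfold FA
  ring

end idx

/-! ### characters -/

section gen

variable {r q l : ℕ} {M : CoxeterMatrix (Fin l)} {A : Fin l → Fin l → ℤ} {h : IsCartan M A} {f : Fin l → ℕ}
  {S : Type*} [Group S] {T : Subgroup S} {n : Fin l → S} {X : (Fin l → ℤ) → Subgroup S}

/-- the character of `H53.HC.big_of_one`: its degree is divisible by the index of `P_J` -/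
theorem exists_idx_dvd [Finite S] {j k₀ k₁ : Fin l} {K' : Set (Fin l)}
    (D : ExcData r q h f {i | i ≠ j} T n X) (hJ : ({i | i ≠ j} : Set (Fin l)) = {k₀, k₁} ∪ K')
    (ho : ∀ i ∈ ({k₀, k₁} : Set (Fin l)), ∀ i' ∈ K', M i i' = 2) (hk : M k₀ k₁ = 3) (hk1 : M k₁ j = 2)
    (hk0 : M k₀ j = 3 ∨ M k₀ j = 4)
    (hun : ∀ a b, a ≠ j → b ≠ j → M a b = 3 → (∀ c, c ≠ j → c ≠ a → c ≠ b → M a c = 2 ∧ M b c = 2) →
      (a = k₀ ∧ b = k₁) ∨ (a = k₁ ∧ b = k₀))
    (hA2 : InA2 h X q k₀ k₁) (hK' : In h X K') :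
    ∃ χ : S → ℂ, IsIrrCharacter S χ ∧ ∃ N : ℕ, χ 1 = N ∧ (PJ M.toCoxeterSystem h T X {i | i ≠ j}).index ∣ N := by
  classical
  have := D.fin
  have : Fintype S := Fintype.ofFinite S
  obtain ⟨θ, hθ, hns, d, t, hd, -, -⟩ := hA2
  obtain ⟨θ', hθ'⟩ := hK'
  have hmem : ∀ i, i ∈ ({i | i ≠ j} : Set (Fin l)) ↔ i ≠ j := fun i => Iff.rfl
  have hk0J : k₀ ∈ ({i | i ≠ j} : Set (Fin l)) := by rw [hJ]; simp
  have hk1J : k₁ ∈ ({i | i ≠ j} : Set (Fin l)) := by rw [hJ]; simp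
  obtain ⟨χ, hχ, k, hk0', hχ1⟩ := exists_irr_one D.rgd D.gg hmem hJ (orth_of h ho) rfl
    (isoPair_of h hk0J hk1J hk fun c hc hc0 hc1 => by
      rw [hJ] at hc
      rcases hc with hc | hc
      · rcases hc with rfl | rfl
        · exact absurd rfl hc0
        · exact absurd rfl hc1
      · exact ⟨ho _ (by simp) c hc, ho _ (by simp) c hc⟩)
    (cartan_two h hk1).1 (not_three_dvd h hk0)
    (fun a b hab => by
      obtain ⟨h1, h2, h3, h4⟩ := of_isoPair h hab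
      exact hun a b h1 h2 h3 h4)
    hθ hns hθ'
  obtain ⟨e, -, he⟩ := Cfsg.Agent.Characters.Core.isIrr_apply_one hθ'.irr
  refine ⟨χ, hχ, (PJ M.toCoxeterSystem h T X {i | i ≠ j}).index * (k * (d * e)), ?_, Dvd.intro _ rfl⟩
  rw [hχ1, hd, he]; push_cast; ring

end gen

section chars

variable {K : Type u} [Field K] [Fintype K] {r f : ℕ} (hr : r.Prime) (hf : f ≠ 0)
  (hK : Fintype.card K = r ^ f) [CharP K r]

include hr hf hK

theorem char8' : ∃ χ : ↥(chevE8.group K) → ℂ, IsIrrCharacter _ χ ∧ ∃ N i : ℕ, χ 1 = N ∧ i ∣ N ∧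
    i * pr (r ^ f) [1, 2, 3, 2, 2, 3, 4, 5] = pr (r ^ f) [2, 8, 12, 14, 18, 20, 24, 30] := by
  have := finite_group (K := K) chevE8
  have D := data_E8_3 hr hf hK
  have h2 := in_A2 D (k₀ := 2) (k₁ := 0) (by decide +kernel) rfl
  have h1 := in_node D 1 3 (by decide +kernel)
  have h4 : In hpE8.isCartan (XX chevE8 8 K) {4, 5, 6, 7} := by
    rw [← range_k8]; exact in_chain D (by norm_num) k8 hk8
  obtain ⟨χ, hχ, N, hN, hd⟩ := exists_idx_dvd D (K' := {1} ∪ {4, 5, 6, 7}) compl8 (by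
      intro i hi i' hi'
      exact or8a i (by simpa using hi) i' (by simpa using hi')) (by decide +kernel) (by decide +kernel)
    (by decide +kernel) un8 h2 (In.union D h1 h4 (by
      intro i hi i' hi'
      exact or8b i (by simpa using hi) i' (by simpa using hi')))
  exact ⟨χ, hχ, N, _, hN, hd, idx8' hr hf hK⟩

theorem char7' : ∃ χ : ↥(chevE7.group K) → ℂ, IsIrrCharacter _ χ ∧ ∃ N i : ℕ, χ 1 = N ∧ i ∣ N ∧
    i * pr (r ^ f) [1, 2, 3, 2, 2, 3, 4] = pr (r ^ f) [2, 6, 8, 10, 12, 14, 18] := by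
  have := finite_group (K := K) chevE7
  have D := data_E7_3 hr hf hK
  have h2 := in_A2 D (k₀ := 2) (k₁ := 0) (by decide +kernel) rfl
  have h1 := in_node D 1 3 (by decide +kernel)
  have h4 : In hpE7.isCartan (XX chevE7 7 K) {4, 5, 6} := by
    rw [← range_k7]; exact in_chain D (by norm_num) k7 hk7
  obtain ⟨χ, hχ, N, hN, hd⟩ := exists_idx_dvd D (K' := {1} ∪ {4, 5, 6}) compl7 (by
      intro i hi i' hi'
      exact or7a i (by simpa using hi) i' (by simpa using hi')) (by decide +kernel) (by decide +kernel)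
    (by decide +kernel) un7 h2 (In.union D h1 h4 (by
      intro i hi i' hi'
      exact or7b i (by simpa using hi) i' (by simpa using hi')))
  exact ⟨χ, hχ, N, _, hN, hd, idx7' hr hf hK⟩

/-- **`A₇ < E₈`** -/
theorem char8 : ∃ χ : ↥(chevE8.group K) → ℂ, IsIrrCharacter _ χ ∧ ∃ N t : ℕ, χ 1 = N ∧ t ∣ 8 ∧
    pr (r ^ f) [2, 8, 12, 14, 18, 20, 24, 30] ∣ N * t * ((r ^ f) ^ 8 - 1) := by
  have := finite_group (K := K) chevE8
  have D := data_E8_3 hr hf hK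
  have := D.fin
  obtain ⟨χ, hχ, a, e, t, -, hχ1, het, ht⟩ := exists_irr_chain D.rgd D.gg (by norm_num) c8 hc8 0 (D.size _)
    fun w hw hwJ => rev8 hw hwJ
  refine ⟨χ, hχ, _, t, hχ1, ht.trans (Nat.gcd_dvd_left _ _), a, ?_⟩
  rw [← idx8 hr hf hK]
  have h1 : (∏ i ∈ Finset.range 7, ((r ^ f) ^ (i + 1) - 1)) * ((r ^ f) ^ 8 - 1) =
      (r ^ f - 1) * ∏ i ∈ Finset.range 7, ((r ^ f) ^ (i + 2) - 1) := by
    simp only [Finset.prod_range_succ, Finset.prod_range_zero]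
    ring_nf
  rw [← h1, ← het]
  ring

/-- **`A₆ < E₇`** -/
theorem char7 : ∃ χ : ↥(chevE7.group K) → ℂ, IsIrrCharacter _ χ ∧ ∃ N t : ℕ, χ 1 = N ∧ t ∣ Nat.gcd 7 (r ^ f - 1) ∧
    pr (r ^ f) [2, 6, 8, 10, 12, 14, 18] ∣ N * t * ((r ^ f) ^ 7 - 1) := by
  have := finite_group (K := K) chevE7
  have D := data_E7_3 hr hf hK
  have := D.fin
  obtain ⟨χ, hχ, a, e, t, -, hχ1, het, ht⟩ := exists_irr_chain D.rgd D.gg (by norm_num) c7 hc7 0 (D.size _)
    fun w hw hwJ => rev7 hw hwJ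
  refine ⟨χ, hχ, _, t, hχ1, ht, a, ?_⟩
  rw [← idx7 hr hf hK]
  have h1 : (∏ i ∈ Finset.range 6, ((r ^ f) ^ (i + 1) - 1)) * ((r ^ f) ^ 7 - 1) =
      (r ^ f - 1) * ∏ i ∈ Finset.range 6, ((r ^ f) ^ (i + 2) - 1) := by
    simp only [Finset.prod_range_succ, Finset.prod_range_zero]
    ring_nf
  rw [← h1, ← het]
  ring

end chars

/-! ### the rows -/

section num

theorem sq_dvd_left {p A B : ℕ} (hp : p.Prime) (h : p ^ 2 ∣ A * B) (hB : ¬ p ∣ B) : p ^ 2 ∣ A :=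
  (Nat.Coprime.pow_left 2 ((Nat.Prime.coprime_iff_not_dvd hp).2 hB)).dvd_of_dvd_mul_right h

theorem dvd_of_gcd {p q a b : ℕ} (ha : p ∣ q ^ a - 1) (hb : p ∣ q ^ b - 1) : p ∣ q ^ Nat.gcd a b - 1 := by
  rw [← Nat.pow_sub_one_gcd_pow_sub_one]
  exact Nat.dvd_gcd ha hb

theorem dvd_pow_sub {p q a b : ℕ} (hab : a ∣ b) (h : p ∣ q ^ a - 1) : p ∣ q ^ b - 1 := by
  obtain ⟨c, rfl⟩ := hab
  refine h.trans ?_
  rw [pow_mul]
  simpa using Nat.sub_dvd_pow_sub_pow (q ^ a) 1 c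

theorem not_dvd_pr' {p q : ℕ} (hp : p.Prime) : ∀ l : List ℕ, (∀ d ∈ l, ¬ p ∣ q ^ d - 1) → ¬ p ∣ pr q l
  | [], _ => by rw [pr_nil, Nat.dvd_one]; exact hp.one_lt.ne'
  | d :: l, h => by
    rw [pr_cons, hp.dvd_mul, not_or]
    exact ⟨h d List.mem_cons_self, not_dvd_pr' hp l fun e he => h e (List.mem_cons_of_mem _ he)⟩

/-- the prime `p` divides the product part -/
theorem dvd_P {p r b d P C : ℕ} (hp : p.Prime) (hr : r.Prime) (hpr : p ≠ r) (hd : p ^ 2 ∣ C) (h : d * C = r ^ b * P) :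
    p ^ 2 ∣ P := by
  have h1 : p ^ 2 ∣ r ^ b * P := by rw [← h]; exact hd.mul_left _
  refine sq_dvd_left hp (by rwa [mul_comm] at h1) fun h2 => hpr ?_
  exact (Nat.prime_dvd_prime_iff_eq hp hr).1 (hp.dvd_of_dvd_pow h2)

end num

/-- **The row `E₈(q)`.** -/
theorem sq_E8 {S : Type u} [Group S] [Finite S] (h : Lie.IsoE8 S) (hs : IsSimpleGroup S) {p : ℕ} [hp : Fact p.Prime]
    (hp2 : p ≠ 2) (hd : p ^ 2 ∣ Nat.card S) : H33.IM (p ^ 2) S := by
  obtain ⟨F, _, _, ⟨e⟩⟩ := h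
  obtain ⟨r, f, hr, hf, hF, hch⟩ := exists_prime_pow F
  have := simple_congr e hs
  have := finite_group (K := F) chevE8
  have D := data_E8_3 hr hf hF
  refine H33.IM.of_equiv e ?_
  rw [Nat.card_congr e.toEquiv] at hd
  by_cases hpr : p = r
  · subst hpr
    exact im_pow hr (by norm_num) D hd
  have hP : p ^ 2 ∣ pr (r ^ f) [2, 8, 12, 14, 18, 20, 24, 30] := by
    refine dvd_P hp.out hr hpr hd (d := 1) (b := f * 120) ?_
    have h3 := Cfsg.Agent.S1065.result hF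
    rw [pow_mul]
    simp only [pr_cons, pr_nil]
    rw [one_mul, h3]
    ring
  have h28 : ∀ t, t ∣ 8 → ¬ p ∣ t := fun t ht h1 => hp2
    ((Nat.prime_dvd_prime_iff_eq hp.out Nat.prime_two).1 (hp.out.dvd_of_dvd_pow (n := 3) (h1.trans ht)))
  by_cases hcase : p ∣ (r ^ f) ^ 8 - 1 ∧ ¬ p ∣ (r ^ f) ^ 4 - 1
  · obtain ⟨h8, h4⟩ := hcase
    obtain ⟨χ, hχ, N, i, hN, hi, hidx⟩ := char8' hr hf hF
    refine H33.IM.of_apply_one hχ hN (dvd_trans ?_ hi)
    refine sq_dvd_left hp.out (by rw [hidx]; exact hP) (not_dvd_pr' hp.out _ ?_)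
    have h1 : ∀ a, Nat.gcd a 8 ∣ 4 → ¬ p ∣ (r ^ f) ^ a - 1 := fun a ha h5 => h4 (dvd_pow_sub ha (dvd_of_gcd h5 h8))
    intro d hd'
    have : d = 1 ∨ d = 2 ∨ d = 3 ∨ d = 4 ∨ d = 5 := by
      revert hd'; revert d; decide
    rcases this with rfl | rfl | rfl | rfl | rfl
    all_goals exact h1 _ (by decide)
  · obtain ⟨χ, hχ, N, t, hN, ht, hdvd⟩ := char8 hr hf hF
    refine H33.IM.of_apply_one hχ hN (sq_dvd_left hp.out ?_ (h28 t ht))
    have h8pos : 0 < (r ^ f) ^ 8 - 1 := Nat.sub_pos_of_lt (Nat.one_lt_pow (by norm_num) (two_le hr hf))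
    have h1 : pr (r ^ f) [2, 12, 14, 18, 20, 24, 30] ∣ N * t := by
      refine Nat.dvd_of_mul_dvd_mul_right h8pos (dvd_trans (dvd_of_eq ?_) hdvd)
      simp only [pr_cons, pr_nil]
      ring
    refine dvd_trans ?_ h1
    by_cases h8 : p ∣ (r ^ f) ^ 8 - 1
    · have h4 : p ∣ (r ^ f) ^ 4 - 1 := by
        by_contra h4
        exact hcase ⟨h8, h4⟩
      have e1 := dvd_pow_sub (show 4 ∣ 12 by norm_num) h4
      have e2 := dvd_pow_sub (show 4 ∣ 20 by norm_num) h4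
      rw [sq]
      refine (mul_dvd_mul e1 e2).trans ?_
      simp only [pr_cons, pr_nil]
      exact ⟨((r ^ f) ^ 2 - 1) * ((r ^ f) ^ 14 - 1) * ((r ^ f) ^ 18 - 1) * ((r ^ f) ^ 24 - 1) * ((r ^ f) ^ 30 - 1),
        by ring⟩
    · refine sq_dvd_left hp.out (B := (r ^ f) ^ 8 - 1) (hP.trans (dvd_of_eq ?_)) h8
      simp only [pr_cons, pr_nil]
      ring

/-- **The row `E₇(q)`.** -/
theorem sq_E7 {S : Type u} [Group S] [Finite S] (h : Lie.IsoE7 S) (hs : IsSimpleGroup S) {p : ℕ} [hp : Fact p.Prime]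
    (hp2 : p ≠ 2) (hd : p ^ 2 ∣ Nat.card S) : H33.IM (p ^ 2) S := by
  obtain ⟨F, _, _, ⟨e⟩⟩ := h
  obtain ⟨r, f, hr, hf, hF, hch⟩ := exists_prime_pow F
  have := simple_congr e hs
  have := finite_group (K := F) chevE7
  have D := data_E7_3 hr hf hF
  refine H33.IM.of_equiv e ?_
  rw [Nat.card_congr e.toEquiv] at hd
  by_cases hpr : p = r
  · subst hpr
    exact im_pow hr (by norm_num) D hd
  have hP : p ^ 2 ∣ pr (r ^ f) [2, 6, 8, 10, 12, 14, 18] := by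
    refine dvd_P hp.out hr hpr hd (d := Nat.gcd 2 (r ^ f - 1)) (b := f * 63) ?_
    have h3 := Cfsg.Agent.S1064.result hF
    rw [pow_mul]
    simp only [pr_cons, pr_nil]
    rw [h3]
    ring
  by_cases h7 : p ∣ (r ^ f) ^ 7 - 1
  · by_cases h1 : p ∣ r ^ f - 1
    · obtain ⟨χ, hχ, N, t, hN, ht, hdvd⟩ := char7 hr hf hF
      refine H33.IM.of_apply_one hχ hN ?_
      have h7pos : 0 < (r ^ f) ^ 7 - 1 := Nat.sub_pos_of_lt (Nat.one_lt_pow (by norm_num) (two_le hr hf))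
      have e14 : (r ^ f) ^ 14 - 1 = ((r ^ f) ^ 7 - 1) * ((r ^ f) ^ 7 + 1) := by
        obtain ⟨x, hx⟩ := Nat.exists_eq_add_of_le (Nat.one_le_pow 7 (r ^ f) (by have := two_le hr hf; omega))
        have e2 : (r ^ f) ^ 14 = (r ^ f) ^ 7 * (r ^ f) ^ 7 := by ring
        rw [e2, hx]
        have e3 : (1 + x) * (1 + x) = x * (1 + x + 1) + 1 := by ring
        rw [e3, Nat.add_sub_cancel, Nat.add_sub_cancel_left]
      have h2 : ((r ^ f) ^ 2 - 1) * ((r ^ f) ^ 6 - 1) * ((r ^ f) ^ 8 - 1) ∣ N * t := by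
        refine Nat.dvd_of_mul_dvd_mul_right h7pos (dvd_trans ?_ hdvd)
        simp only [pr_cons, pr_nil]
        rw [e14]
        exact ⟨((r ^ f) ^ 10 - 1) * ((r ^ f) ^ 12 - 1) * ((r ^ f) ^ 7 + 1) * ((r ^ f) ^ 18 - 1), by ring⟩
      have h1' : p ∣ (r ^ f) ^ 1 - 1 := by rwa [pow_one]
      have h3 : p * p * p ∣ N * t :=
        (mul_dvd_mul (mul_dvd_mul (dvd_pow_sub (by norm_num) h1') (dvd_pow_sub (by norm_num) h1'))
          (dvd_pow_sub (by norm_num) h1')).trans h2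
      rcases (Nat.dvd_prime (by norm_num : (7 : ℕ).Prime)).1 (ht.trans (Nat.gcd_dvd_left _ _)) with rfl | rfl
      · rw [mul_one] at h3
        exact (Dvd.intro p (show p ^ 2 * p = p * p * p by ring)).trans h3
      · by_cases hp7 : p = 7
        · subst hp7
          have h4 := Nat.dvd_of_mul_dvd_mul_right (by norm_num) h3
          rwa [sq]
        · refine sq_dvd_left hp.out ((Dvd.intro p (show p ^ 2 * p = p * p * p by ring)).trans h3) fun h5 => hp7 ?_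
          exact (Nat.prime_dvd_prime_iff_eq hp.out (by norm_num)).1 h5
    · obtain ⟨χ, hχ, N, i, hN, hi, hidx⟩ := char7' hr hf hF
      refine H33.IM.of_apply_one hχ hN (dvd_trans ?_ hi)
      refine sq_dvd_left hp.out (by rw [hidx]; exact hP) (not_dvd_pr' hp.out _ ?_)
      have h2 : ∀ a, Nat.gcd a 7 = 1 → ¬ p ∣ (r ^ f) ^ a - 1 := fun a ha h5 => h1 (by
        have h6 := dvd_of_gcd h5 h7
        rwa [ha, pow_one] at h6)
      intro d hd'
      have : d = 1 ∨ d = 2 ∨ d = 3 ∨ d = 4 := by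
        revert hd'; revert d; decide
      rcases this with rfl | rfl | rfl | rfl
      all_goals exact h2 _ (by decide)
  · obtain ⟨χ, hχ, N, t, hN, ht, hdvd⟩ := char7 hr hf hF
    have h1 : ¬ p ∣ t := fun h5 => h7 (by
      have h6 : p ∣ (r ^ f) ^ 1 - 1 := by rw [pow_one]; exact h5.trans (ht.trans (Nat.gcd_dvd_right _ _))
      exact dvd_pow_sub (by norm_num) h6)
    refine H33.IM.of_apply_one hχ hN (sq_dvd_left hp.out (sq_dvd_left hp.out (hP.trans hdvd) h7) h1)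

end Cfsg.Agent.H582.Sq
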