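import Cfsg.Agent.H53.HC.Gal

/-!
# Cuspidal characters of `SL_n(F)`, `n ≥ 4`, are not invariant under the graph automorphisms

The general form of `H53.HC.Gal.not_swap` (`n = 3`).
-/

set_option autoImplicit false
set_option linter.unusedSectionVars false

open Polynomial Cfsg
open scoped ComplexConjugate

namespace Cfsg.Agent.H582.Sq

open Cfsg.Agent.H139.Cusp Cfsg.Agent.Characters Matrix Cfsg.Agent.H53.HC.Gal Cfsg.Agent.H53.HC

universe u v w

attribute [local instance] fintypeHom fintypeSub finite_quot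

section num

theorem bound {q Z x : ℕ} (hq : 2 ≤ q) (hZ : q ^ 4 ≤ Z) (hx : x * x ≤ Z) : (q - 1) * (q - 1) * (1 + x) < Z - 1 := by
  obtain ⟨y, rfl⟩ := Nat.exists_eq_add_of_le hq
  have e1 : 2 + y - 1 = y + 1 := by omega
  rw [e1]
  have h4 : (2 + y) ^ 4 = y ^ 4 + 8 * y ^ 3 + 24 * y ^ 2 + 32 * y + 16 := by ring
  have h5 : (y + 1) * (y + 1) = y ^ 2 + 2 * y + 1 := by ring
  rw [h5]
  by_cases hxq : y ^ 2 + 4 * y + 4 ≤ x
  · have h1 : (y ^ 2 + 2 * y + 1) * (1 + x) + 1 < x * x := by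
      obtain ⟨z, rfl⟩ := Nat.exists_eq_add_of_le hxq
      ring_nf
      nlinarith [Nat.zero_le z, Nat.zero_le y, Nat.zero_le (y * z), Nat.zero_le (y ^ 2 * z)]
    omega
  · push Not at hxq
    have h1 : (y ^ 2 + 2 * y + 1) * (1 + x) ≤ (y ^ 2 + 2 * y + 1) * (y ^ 2 + 4 * y + 4) :=
      Nat.mul_le_mul_left _ (by omega)
    have h2 : (y ^ 2 + 2 * y + 1) * (y ^ 2 + 4 * y + 4) = y ^ 4 + 6 * y ^ 3 + 13 * y ^ 2 + 12 * y + 4 := by ring
    have h3 : 0 ≤ y ^ 3 := Nat.zero_le _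
    have h6 : 0 ≤ y ^ 2 := Nat.zero_le _
    omega

/-- **The numerical lemma.** -/
theorem nsn {p f n : ℕ} (hp : p.Prime) (hf : 0 < f) (hn : 4 ≤ n) (i j : ℕ) :
    ¬ ((p ^ f) ^ n - 1) ∣ (p ^ f - 1) * ((p ^ f - 1) * ((p ^ f) ^ i + p ^ j)) := by
  intro hdvd
  have hq2 : 2 ≤ p ^ f := hp.two_le.trans (Nat.le_self_pow hf.ne' p)
  set q := p ^ f with hq
  set c := (q - 1) * (q - 1) with hc
  set N := f * n with hN
  have hZ : q ^ n = p ^ N := by rw [hq, hN, pow_mul]
  have hZ4 : q ^ 4 ≤ p ^ N := by rw [← hZ]; exact Nat.pow_le_pow_right (by omega) hn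
  have hN0 : 0 < N := Nat.mul_pos hf (by omega)
  have hZ1 : 1 ≤ p ^ N := Nat.one_le_pow _ _ hp.pos
  rw [hZ, hq, ← pow_mul, ← hq] at hdvd
  obtain ⟨m, hm⟩ : ∃ m, m = p ^ N - 1 := ⟨_, rfl⟩
  rw [← hm] at hdvd
  have hm1 : m + 1 = p ^ N := by omega
  have hcop : Nat.Coprime m p := by
    have h1 : ¬ p ∣ m := by
      intro h2
      have h3 : p ∣ m + 1 := by rw [hm1]; exact dvd_pow_self p hN0.ne'
      exact hp.one_lt.ne' (Nat.dvd_one.1 ((Nat.dvd_add_right h2).1 h3))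
    exact ((Nat.Prime.coprime_iff_not_dvd hp).2 h1).symm
  have key : ∀ a b : ℕ, a ≤ b → m ∣ c * (p ^ a + p ^ b) → False := by
    intro a b hab h1
    obtain ⟨u, rfl⟩ := Nat.exists_eq_add_of_le hab
    have h2 : c * (p ^ a + p ^ (a + u)) = p ^ a * (c * (1 + p ^ u)) := by rw [pow_add]; ring
    rw [h2] at h1
    have h3 : m ∣ c * (1 + p ^ u) := (Nat.Coprime.pow_right a hcop).dvd_of_dvd_mul_left h1
    -- reduce modulo `N`
    have h4 : p ^ N ≡ 1 [MOD m] := by
      rw [← hm1]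
      have h0 : m ≡ 0 [MOD m] := Nat.modEq_zero_iff_dvd.2 dvd_rfl
      have h1 := h0.add_right 1
      rwa [Nat.zero_add] at h1
    have h5 : p ^ u ≡ p ^ (u % N) [MOD m] := by
      conv_lhs => rw [← Nat.div_add_mod u N, pow_add, pow_mul]
      have := (h4.pow (u / N)).mul_right (p ^ (u % N))
      rwa [one_pow, one_mul] at this
    have h6 : m ∣ c * (1 + p ^ (u % N)) := by
      rw [← Nat.modEq_zero_iff_dvd] at h3 ⊢
      exact ((h5.symm.add_left 1).mul_left c).trans h3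
    have hv : u % N < N := Nat.mod_lt _ hN0
    obtain ⟨v, hv'⟩ : ∃ v, v = u % N := ⟨_, rfl⟩
    rw [← hv'] at h6 hv
    have fin : ∀ v : ℕ, 2 * v ≤ N → m ∣ c * (1 + p ^ v) → False := by
      intro v h2v h7
      have h8 : p ^ v * p ^ v ≤ p ^ N := by
        rw [← pow_add]
        exact Nat.pow_le_pow_right hp.pos (by omega)
      have h9 := bound hq2 hZ4 h8
      rw [← hc, ← hm] at h9
      have hc0 : 0 < c := Nat.mul_pos (by omega) (by omega)
      have h10 := Nat.le_of_dvd (Nat.mul_pos hc0 (by omega)) h7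
      omega
    by_cases h7 : 2 * v ≤ N
    · exact fin v h7 h6
    · refine fin (N - v) (by omega) ?_
      have h8 : m ∣ p ^ (N - v) * (c * (1 + p ^ v)) := h6.mul_left _
      have h9 : p ^ (N - v) * (c * (1 + p ^ v)) = c * (1 + p ^ (N - v)) + c * m := by
        have h10 : p ^ (N - v) * p ^ v = m + 1 := by
          rw [← pow_add, Nat.sub_add_cancel hv.le, hm1]
        calc p ^ (N - v) * (c * (1 + p ^ v)) = c * (p ^ (N - v) + p ^ (N - v) * p ^ v) := by ring
          _ = c * (1 + p ^ (N - v)) + c * m := by rw [h10]; ring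
      rw [h9] at h8
      exact (Nat.dvd_add_left (Dvd.intro_left c rfl)).1 h8
  have h1 : (q - 1) * ((q - 1) * (p ^ (f * i) + p ^ j)) = c * (p ^ (f * i) + p ^ j) := by rw [hc]; ring
  rw [h1] at hdvd
  rcases le_total (f * i) j with h2 | h2
  · exact key _ _ h2 hdvd
  · rw [add_comm] at hdvd
    exact key _ _ h2 hdvd

end num

section main

variable {F : Type u} [Field F] [Finite F] {L : Type w} [Field L] [Finite L] [Algebra F L]
  {θ : L →*₀ ℂ} (hθ : Function.Injective θ) {n : ℕ}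

include hθ

theorem no_common (hn4 : 4 ≤ n) (hn : Module.finrank F L = n) {p : ℕ} [Fact p.Prime] [CharP F p] {σ : L ≃+* L} {j : ℕ}
    (hσ : ∀ x, σ x = x ^ p ^ j) (hq0 : Nat.card F - 1 ≠ 0) {Θ' : L →*₀ ℂ}
    (hΘ' : ∀ x, Θ' x = conj (powTheta θ (Nat.card F - 1) hq0 (σ x)))
    [Fintype (SpecialLinearGroup (Fin n) F)]
    (h : classInner (psi (n := n) (F := F) L (powTheta θ (Nat.card F - 1) hq0) ∘ SpecialLinearGroup.toGL)
      (psi L Θ' ∘ SpecialLinearGroup.toGL) ≠ 0) : False := by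
  have hp : p.Prime := Fact.out
  have : Fintype F := Fintype.ofFinite F
  obtain ⟨i, -, hi⟩ := exists_frob_eq hn _ _ h
  obtain ⟨f, hf⟩ : ∃ f : ℕ+, Fintype.card F = p ^ (f : ℕ) := by
    obtain ⟨f, -, hf⟩ := FiniteField.card F p
    exact ⟨f, hf⟩
  have hq : Nat.card F = p ^ (f : ℕ) := by rw [Nat.card_eq_fintype_card, hf]
  have hq2 : 2 ≤ Nat.card F := Finite.one_lt_card
  obtain ⟨γ, hγ⟩ := IsCyclic.exists_ofOrder_eq_natCard (α := Lˣ)
  set q := Nat.card F with hqd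
  -- the norm of `γ ^ (q - 1)`
  have hnorm : Algebra.norm F ((γ : L) ^ (q - 1)) = 1 := by
    rw [map_pow]
    have h1 : Algebra.norm F (γ : L) ≠ 0 := by
      rw [Ne, Algebra.norm_eq_zero_iff]
      exact γ.ne_zero
    have h3 : (Units.mk0 _ h1) ^ (q - 1) = 1 := by
      rw [hqd, ← Nat.card_units]
      exact pow_card_eq_one'
    exact congrArg Units.val h3
  have h1 := hi _ hnorm
  rw [hΘ', conj_theta_eq, powTheta_apply, powTheta_apply, hσ] at h1
  -- `γ ^ ((q - 1) * ((q - 1) * (q ^ i + p ^ j))) = 1`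
  have h2 : θ ((γ : L) ^ ((q - 1) * ((q - 1) * (q ^ i + p ^ j)))) = 1 := by
    have e1 : (q - 1) * ((q - 1) * (q ^ i + p ^ j)) = (q - 1) * q ^ i * (q - 1) + (q - 1) * p ^ j * (q - 1) := by ring
    rw [e1, pow_add, map_mul, pow_mul _ ((q - 1) * q ^ i), pow_mul _ ((q - 1) * p ^ j), map_pow θ (_ ^ _) (q - 1),
      map_pow θ (_ ^ _) (q - 1), pow_mul, pow_mul, ← h1, map_inv₀, inv_pow]
    refine inv_mul_cancel₀ (pow_ne_zero _ ?_)
    rw [Ne, map_eq_zero θ]
    exact pow_ne_zero _ (pow_ne_zero _ γ.ne_zero)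
  have h3 : γ ^ ((q - 1) * ((q - 1) * (q ^ i + p ^ j))) = 1 := by
    apply Units.ext
    rw [Units.val_pow_eq_pow_val, Units.val_one]
    exact hθ (by rw [h2, map_one])
  have h4 := orderOf_dvd_of_pow_eq_one h3
  rw [hγ, Nat.card_units, Module.natCard_eq_pow_finrank (K := F), hn, ← hqd, hq] at h4
  exact nsn hp f.2 hn4 i j h4

/-- **No invariance under the graph automorphisms.** -/
theorem not_swap (hn4 : 4 ≤ n) (hn : Module.finrank F L = n) (hq0 : Nat.card F - 1 ≠ 0)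
    {η : SpecialLinearGroup (Fin n) F → ℂ} (hη : IsIrrCharacter _ η)
    (hc : IsCharacter _ (psi (n := n) (F := F) L (powTheta θ (Nat.card F - 1) hq0) ∘ SpecialLinearGroup.toGL - η))
    (τ : F ≃+* F) (C : GL (Fin n) F) (α : SpecialLinearGroup (Fin n) F →* SpecialLinearGroup (Fin n) F)
    (hα : ∀ x, (α x : Matrix (Fin n) (Fin n) F) =
      C * ((x⁻¹ : SpecialLinearGroup (Fin n) F) : Matrix (Fin n) (Fin n) F).transpose.map τ *
        ((C⁻¹ : GL (Fin n) F) : Matrix (Fin n) (Fin n) F)) : η ∘ α ≠ η := by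
  classical
  intro hinv
  have : Fintype F := Fintype.ofFinite F
  obtain ⟨p, hp'⟩ := CharP.exists F
  have : Fact p.Prime := ⟨CharP.char_is_prime F p⟩
  obtain ⟨j, hj⟩ := exists_frob_pow (p := p) τ
  obtain ⟨σ, hσ, hστ⟩ := exists_ext (L := L) hj
  set Θ := powTheta θ (Nat.card F - 1) hq0 with hΘ
  let Θ₁ : L →*₀ ℂ := Θ.comp (σ : L →+* L).toMonoidWithZeroHom
  have hΘ₁ : ∀ x, Θ (σ x) = Θ₁ x := fun x => rfl
  refine no_common hθ hn4 hn hσ hq0 (Θ' := conjTheta Θ₁) (fun x => rfl) (inner_ne_zero hη hc ?_)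
  have h1 : (psi (n := n) (F := F) L Θ ∘ SpecialLinearGroup.toGL) ∘ α =
      psi L (conjTheta Θ₁) ∘ SpecialLinearGroup.toGL := by
    funext x
    rw [Function.comp_apply, Function.comp_apply, Function.comp_apply, ← psi_inv hn Θ₁, ← map_inv]
    have h2 : psi L Θ (SpecialLinearGroup.toGL (α x)) =
        cuspMat L Θ (((x⁻¹ : SpecialLinearGroup (Fin n) F) : Matrix (Fin n) (Fin n) F).transpose.map τ) := by
      let T : SpecialLinearGroup (Fin n) F := ⟨((x⁻¹ : SpecialLinearGroup (Fin n) F) :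
        Matrix (Fin n) (Fin n) F).transpose.map τ, by
          have h3 : (((x⁻¹ : SpecialLinearGroup (Fin n) F) : Matrix (Fin n) (Fin n) F).transpose.map τ).det =
              τ (((x⁻¹ : SpecialLinearGroup (Fin n) F) : Matrix (Fin n) (Fin n) F).transpose.det) :=
            (RingHom.map_det (τ : F →+* F) _).symm
          rw [h3, Matrix.det_transpose, (x⁻¹).2, map_one]⟩
      have h4 : ((C * SpecialLinearGroup.toGL T * C⁻¹ : GL (Fin n) F) : Matrix (Fin n) (Fin n) F) = (α x).1 := by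
        rw [hα]; rfl
      have h5 := cuspMat_conj Θ C (SpecialLinearGroup.toGL T)
      rw [h4] at h5
      exact h5
    rw [h2, Matrix.transpose_map, cuspMat_transpose, cuspMat_semilinear hn hστ hΘ₁]
    rfl
  have h2 := Core.isCharacter_comp α hc
  have h3 : (psi (n := n) (F := F) L Θ ∘ SpecialLinearGroup.toGL - η) ∘ α =
      psi L (conjTheta Θ₁) ∘ SpecialLinearGroup.toGL - η := by
    rw [← h1]
    funext x
    change (psi L Θ ∘ SpecialLinearGroup.toGL) (α x) - (η ∘ α) x = _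
    rw [hinv]
    rfl
  rw [h3] at h2
  exact h2

end main

end Cfsg.Agent.H582.Sq
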