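import Cfsg.Agent.H582.Sq.SemiN
import Cfsg.Agent.H582.Sq.GalN
import Cfsg.Agent.H622.Levi.NonSwap

/-!
# Characters from a maximal Levi subgroup of type `A_m`, `m ≥ 3`

`J` = all nodes but `j` is a chain `k` of `m ≥ 3` nodes; if the elements `w ∉ W_J` permuting the simple roots of `J`
reverse the chain then the group has an irreducible character of degree `|G : P_J| a e`,
`e t = ∏_{i < m} (q^(i+1) - 1)`, `t ∣ gcd(m + 1, q - 1)`.
-/

set_option autoImplicit false
set_option linter.unusedSectionVars false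

namespace Cfsg.Agent.H582.Sq

open Cfsg Cfsg.Agent.Characters CoxeterSystem Cfsg.Agent.ChevalleyStructure.CoxeterGeom Cfsg.Agent.Tits.Roots
  Cfsg.Agent.Tits.Core Cfsg.Agent.Tits.Exchange Cfsg.Agent.Nodes.Reps Cfsg.Agent.Nodes.BNOf
  Cfsg.Agent.Nodes.StabComb Cfsg.Agent.Nodes.Bruhat Cfsg.Agent.Nodes.OppDec Cfsg.Agent.Nodes.LeviDec
open Cfsg.Agent.LieRecognition.BNCox (cA)
open Cfsg.Agent.TitsThree.KSideA (tv tv_of_ne tv_add tv_zero tv_neg tv_comm)
open Cfsg.Agent.H139.Cusp (powTheta powTheta_algebraMap regular_powTheta_iff psi)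
open Cfsg.Agent.H622.Levi (Co cr cr_succ cr_neg UU exists_sl_con exists_descend exists_co swapHom coe_swapHom)
open Cfsg.Agent.H53.HC (conjME conjME_coe Cusp Perm)
open Matrix
open scoped commutatorElement ComplexConjugate

section eta

variable {F L : Type} [Field F] [Finite F] [Field L] [Finite L] [Algebra F L] {m : ℕ}

theorem regular_n {n : ℕ} (hL : Module.finrank F L = n) {θ : L →*₀ ℂ} (hθ : Function.Injective θ)
    (hq0 : Nat.card F - 1 ≠ 0) : H139.Cusp.Regular F n (powTheta θ (Nat.card F - 1) hq0) := by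
  rw [regular_powTheta_iff hθ hq0 hL]
  intro i hi hin hdvd
  have hq : 2 ≤ Nat.card F := Finite.one_lt_card
  have h1 : 0 < Nat.card F ^ i - 1 := Nat.sub_pos_of_lt (Nat.one_lt_pow (by omega) hq)
  have h2 := Nat.le_of_dvd (Nat.mul_pos (Nat.pos_of_ne_zero hq0) h1) hdvd
  have h3 : Nat.card F * Nat.card F ^ i ≤ Nat.card F ^ n := by
    rw [← pow_succ']
    exact Nat.pow_le_pow_right (by omega) hin
  have h4 : (Nat.card F - 1) * (Nat.card F ^ i - 1) + Nat.card F + Nat.card F ^ i = Nat.card F * Nat.card F ^ i + 1 := by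
    obtain ⟨y, hy⟩ := Nat.exists_eq_add_of_le hq
    obtain ⟨z, hz⟩ := Nat.exists_eq_add_of_le h1
    have hz' : Nat.card F ^ i = z + 2 := by omega
    rw [hz', hy]
    have e1 : 2 + y - 1 = y + 1 := by omega
    have e2 : z + 2 - 1 = z + 1 := by omega
    rw [e1, e2]
    ring
  omega

/-- the constituents -/
theorem exists_eta (hm : 1 ≤ m) (hL : Module.finrank F L = m + 1) {θ : L →*₀ ℂ} (hθ : Function.Injective θ)
    (hq0 : Nat.card F - 1 ≠ 0) :
    ∃ (η : SpecialLinearGroup (Fin (m + 1)) F → ℂ) (e t : ℕ), IsIrrCharacter _ η ∧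
      IsCharacter _ (psi (n := m + 1) (F := F) L (powTheta θ (Nat.card F - 1) hq0) ∘ SpecialLinearGroup.toGL - η) ∧
      (∀ z ∈ Subgroup.center (SpecialLinearGroup (Fin (m + 1)) F), η z = η 1) ∧
      (∀ i : Fin m, ∀ [Fintype (UU F i)], ∑ g : UU F i, η g = 0) ∧
      η 1 = e ∧ e * t = ∏ i ∈ Finset.range m, (Nat.card F ^ (i + 1) - 1) ∧ t ∣ Nat.gcd (m + 1) (Nat.card F - 1) := by
  obtain ⟨η, e, t, h3, h3', h4, h5, h6, h7, h8⟩ := exists_sl_con (m := m)
    (Ψ := psi (n := m + 1) (F := F) L (powTheta θ (Nat.card F - 1) hq0)) hm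
    (H139.Cusp.psi_isIrr _ hL (regular_n hL hθ hq0)) (H139.Cusp.psi_isCusp L _)
    (fun c => by
      have := H139.Cusp.psi_scalar (powTheta θ (Nat.card F - 1) hq0) hL c 1
      rw [mul_one] at this
      rw [this, powTheta_algebraMap hq0 dvd_rfl c.ne_zero, one_mul])
    (H139.Cusp.psi_one L _ (by omega))
  exact ⟨η, e, t, h3, h3', h4, h5, h6, h7, h8⟩

end eta

variable {I W Y : Type*} [Fintype I] [DecidableEq I] [Group W] [Group Y] {M : CoxeterMatrix I}
  {cs : CoxeterSystem M W} {A : I → I → ℤ} {h : IsCartan M A} {p : ℕ} {T : Subgroup Y} {n : I → Y}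
  {X : (I → ℤ) → Subgroup Y}

section cnj

variable {m : ℕ} {F : Type} [Field F] {φ : SpecialLinearGroup (Fin (m + 1)) F →* Y}

/-- injectivity on root groups -/
theorem tv_injective (hm : 2 ≤ m) (hker : φ.ker ≤ Subgroup.center (SpecialLinearGroup (Fin (m + 1)) F))
    {a b : Fin (m + 1)} (hab : a ≠ b) : Function.Injective fun t : F => φ (tv a b t) := by
  obtain ⟨c, hac, hbc⟩ : ∃ c : Fin (m + 1), a ≠ c ∧ b ≠ c := by
    by_contra hcon
    push Not at hcon
    have h1 : (Finset.univ : Finset (Fin (m + 1))) ⊆ {a, b} := by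
      intro c _
      by_cases hc : a = c
      · simp [hc]
      · simp [hcon c hc]
    have h2 := (Finset.card_le_card h1).trans Finset.card_le_two
    rw [Finset.card_univ, Fintype.card_fin] at h2
    omega
  intro s t hst
  have h2 : (tv a b s)⁻¹ * tv a b t ∈ φ.ker := by
    rw [MonoidHom.mem_ker, map_mul, map_inv]
    exact inv_mul_eq_one.2 hst
  have h3 := hker h2
  rw [← tv_neg, ← tv_add] at h3
  have h4 : ⁅tv a b (-s + t), tv b c (1 : F)⁆ = 1 := by
    rw [commutatorElement_eq_one_iff_mul_comm]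
    exact (Subgroup.mem_center_iff.1 h3 _).symm
  rw [tv_comm hab hbc hac, mul_one] at h4
  have h5 : (tv a c (-s + t) : SpecialLinearGroup (Fin (m + 1)) F).1 a c =
      (1 : Matrix (Fin (m + 1)) (Fin (m + 1)) F) a c :=
    congrFun (congrFun (congrArg Subtype.val h4) a) c
  rw [val_tv hac, Matrix.add_apply, Matrix.single_apply_same] at h5
  have h6 := add_eq_left.1 h5
  rw [neg_add_eq_zero] at h6
  exact h6

/-- composition of root groups, swapped -/
theorem swap_of {g : Y} {a b c : Fin (m + 1)} (hab : a ≠ b) (hbc : b ≠ c) (hac : a ≠ c)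
    (h1 : ∀ s : F, ∃ t : F, g * φ (tv a b s) * g⁻¹ = φ (tv (Fin.rev b) (Fin.rev a) t))
    (h2 : ∀ s : F, ∃ t : F, g * φ (tv b c s) * g⁻¹ = φ (tv (Fin.rev c) (Fin.rev b) t)) (s : F) :
    ∃ t : F, g * φ (tv a c s) * g⁻¹ = φ (tv (Fin.rev c) (Fin.rev a) t) := by
  have hrev : ∀ {a b : Fin (m + 1)}, a ≠ b → Fin.rev b ≠ Fin.rev a := fun hab h => hab (Fin.rev_injective h).symm
  obtain ⟨t, ht⟩ := h1 s
  obtain ⟨u, hu⟩ := h2 1
  refine ⟨-(u * t), ?_⟩
  have e1 : tv a c s = ⁅tv a b s, tv b c (1 : F)⁆ := by rw [tv_comm hab hbc hac, mul_one]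
  rw [e1, map_commutatorElement, conjugate_commutatorElement, ht, hu, ← map_commutatorElement,
    ← commutatorElement_inv, tv_comm (hrev hbc) (hrev hab) (hrev hac), ← tv_neg]

/-- conjugation of root groups -/
theorem conj_of {k : Fin m → I} (C : Co X k F φ) {g : Y} {a b a' b' : Fin (m + 1)} (hab : a ≠ b) (hab' : a' ≠ b')
    (hg : cj g (X (cr k a b)) = X (cr k a' b')) (s : F) : ∃ t : F, g * φ (tv a b s) * g⁻¹ = φ (tv a' b' t) := by
  have h1 : φ (tv a b s) ∈ X (cr k a b) := by
    have h0 : φ (tv a b s) ∈ (X (cr k a b) : Set Y) := by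
      rw [C.root a b hab, tv_of_ne hab]
      exact ⟨s, rfl⟩
    exact h0
  have h2 : g * φ (tv a b s) * g⁻¹ ∈ (X (cr k a' b') : Set Y) := by
    change _ ∈ X (cr k a' b')
    rw [← hg, mem_cj]
    have : g⁻¹ * (g * φ (tv a b s) * g⁻¹) * g = φ (tv a b s) := by group
    rwa [this]
  rw [C.root a' b' hab'] at h2
  obtain ⟨t, ht⟩ := h2
  exact ⟨t, by rw [tv_of_ne hab']; exact ht.symm⟩

/-- all root groups are reversed -/
theorem swap_tv {k : Fin m → I} (C : Co X k F φ) {g : Y} (h1 : ∀ i, cj g (X (sr (k i))) = X (sr (k (Fin.rev i))))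
    (h2 : ∀ i, cj g (X (-sr (k i))) = X (-sr (k (Fin.rev i)))) (a b : Fin (m + 1)) (hab : a ≠ b) (s : F) :
    ∃ t : F, g * φ (tv a b s) * g⁻¹ = φ (tv (Fin.rev b) (Fin.rev a) t) := by
  have key : ∀ d : ℕ, ∀ a b : Fin (m + 1), b.val = a.val + d + 1 →
      (∀ s : F, ∃ t : F, g * φ (tv a b s) * g⁻¹ = φ (tv (Fin.rev b) (Fin.rev a) t)) ∧
      ∀ s : F, ∃ t : F, g * φ (tv b a s) * g⁻¹ = φ (tv (Fin.rev a) (Fin.rev b) t) := by
    intro d
    induction d with
    | zero =>
      intro a b hb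
      have hbm := b.2
      obtain ⟨i, rfl, rfl⟩ : ∃ i : Fin m, i.castSucc = a ∧ i.succ = b :=
        ⟨⟨a.val, by omega⟩, Fin.ext rfl, Fin.ext (by simp; omega)⟩
      have hne : i.castSucc ≠ i.succ := (Fin.castSucc_lt_succ (i := i)).ne
      have hne' : Fin.rev i.succ ≠ Fin.rev i.castSucc := fun h => hne (Fin.rev_injective h).symm
      have e1 : cr k (Fin.rev i.succ) (Fin.rev i.castSucc) = sr (k (Fin.rev i)) := by
        rw [Fin.rev_succ, Fin.rev_castSucc, cr_succ]
      have e2 : cr k (Fin.rev i.castSucc) (Fin.rev i.succ) = -sr (k (Fin.rev i)) := by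
        rw [← e1, cr_neg]
      refine ⟨conj_of C hne hne' ?_, conj_of C hne.symm hne'.symm ?_⟩
      · rw [cr_succ, e1, h1]
      · rw [e2, ← cr_neg, cr_succ, h2]
    | succ d ih =>
      intro a b hb
      have hbm := b.2
      obtain ⟨c, hc⟩ : ∃ c : Fin (m + 1), c.val = a.val + 1 := ⟨⟨a.val + 1, by omega⟩, rfl⟩
      have hac : a ≠ c := fun h => by have := congrArg Fin.val h; omega
      have hcb : c ≠ b := fun h => by have := congrArg Fin.val h; omega
      have hab : a ≠ b := fun h => by have := congrArg Fin.val h; omega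
      obtain ⟨ihc1, ihc2⟩ := ih c b (by omega)
      have h0 : (∀ s : F, ∃ t : F, g * φ (tv a c s) * g⁻¹ = φ (tv (Fin.rev c) (Fin.rev a) t)) ∧
          ∀ s : F, ∃ t : F, g * φ (tv c a s) * g⁻¹ = φ (tv (Fin.rev a) (Fin.rev c) t) := by
        obtain ⟨i, rfl, rfl⟩ : ∃ i : Fin m, i.castSucc = a ∧ i.succ = c :=
          ⟨⟨a.val, by omega⟩, Fin.ext rfl, Fin.ext (by simp; omega)⟩
        have hne : i.castSucc ≠ i.succ := (Fin.castSucc_lt_succ (i := i)).ne
        have hne' : Fin.rev i.succ ≠ Fin.rev i.castSucc := fun h => hne (Fin.rev_injective h).symm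
        have e1 : cr k (Fin.rev i.succ) (Fin.rev i.castSucc) = sr (k (Fin.rev i)) := by
          rw [Fin.rev_succ, Fin.rev_castSucc, cr_succ]
        have e2 : cr k (Fin.rev i.castSucc) (Fin.rev i.succ) = -sr (k (Fin.rev i)) := by
          rw [← e1, cr_neg]
        refine ⟨conj_of C hne hne' ?_, conj_of C hne.symm hne'.symm ?_⟩
        · rw [cr_succ, e1, h1]
        · rw [e2, ← cr_neg, cr_succ, h2]
      exact ⟨swap_of hac hcb hab h0.1 ihc1, swap_of hcb.symm hac.symm hab.symm ihc2 h0.2⟩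
  rcases Nat.lt_or_gt_of_ne (fun h => hab (Fin.ext h)) with hlt | hlt
  · exact (key (b.val - a.val - 1) a b (by omega)).1 s
  · exact (key (a.val - b.val - 1) b a (by omega)).2 s

end cnj

section final

variable [Finite W] [Finite Y]

/-- **The characters of the Levi subgroups of type `A_m` which are not invariant under elements reversing the
chain.** -/
theorem exists_ns {m : ℕ} (hm : 3 ≤ m) {F : Type} [Field F] [Finite F]
    {φ : SpecialLinearGroup (Fin (m + 1)) F →* Y} {k : Fin m ↪ I} (C : Co X k F φ)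
    (hk : ∀ i j, M (k i) (k j) = cA m i j) :
    ∃ (θ : ↥(H53.HC.MJ cs h X (Set.range k)) → ℂ) (e t : ℕ), Cusp cs h X (Set.range k) θ ∧ θ 1 = e ∧
      e * t = ∏ i ∈ Finset.range m, (Nat.card F ^ (i + 1) - 1) ∧ t ∣ Nat.gcd (m + 1) (Nat.card F - 1) ∧
      ∀ (g : Y) (hg : g ∈ Subgroup.normalizer (H53.HC.MJ cs h X (Set.range k) : Set Y)),
        (∀ i, cj g (X (sr (k i))) = X (sr (k (Fin.rev i)))) →
        (∀ i, cj g (X (-sr (k i))) = X (-sr (k (Fin.rev i)))) →
        θ ∘ conjME (H53.HC.MJ cs h X (Set.range k)) hg ≠ θ := by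
  have hq0 : Nat.card F - 1 ≠ 0 := by
    have : 1 < Nat.card F := Finite.one_lt_card
    omega
  obtain ⟨L, _, _, _, hL⟩ : ∃ (L : Type) (_ : Field L) (_ : Algebra F L) (_ : Finite L),
      Module.finrank F L = m + 1 := by
    obtain ⟨p, hp⟩ := CharP.exists F
    have : Fact p.Prime := ⟨CharP.char_is_prime F p⟩
    have : NeZero (m + 1) := ⟨by omega⟩
    exact ⟨FiniteField.Extension F p (m + 1), inferInstance, inferInstance, inferInstance,
      FiniteField.finrank_extension F p (m + 1)⟩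
  obtain ⟨θ₀, hθ₀⟩ := H139.Cusp.exists_theta L
  obtain ⟨η, e, t, hη, hc, hz, hs, he, het, ht⟩ := exists_eta (F := F) (m := m) (by omega) hL hθ₀ hq0
  obtain ⟨θ, hθ, hv⟩ := exists_descend (cs := cs) (h := h) C hk (by omega) hη hz hs
  have hran : φ.range = H53.HC.MJ cs h X (Set.range k) := C.range hk (by omega)
  have hmem : ∀ x, φ x ∈ H53.HC.MJ cs h X (Set.range k) := fun x => hran ▸ ⟨x, rfl⟩
  have hinj : ∀ a b : Fin (m + 1), a ≠ b → Function.Injective fun t : F => φ (tv a b t) :=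
    fun a b hab => tv_injective (by omega) C.ker hab
  refine ⟨θ, e, t, hθ, (hv 1 1 (map_one φ).symm).trans he, het, ht, ?_⟩
  intro g hg h1 h2 hcon
  obtain ⟨τ, D, hD⟩ := exists_swap (by omega) hinj (swap_tv C h1 h2)
  refine not_swap hθ₀ (by omega) hL hq0 hη hc τ D (swapHom D τ) (fun x => ?_) ?_
  · rw [Matrix.transpose_map]
    exact coe_swapHom D τ x
  · funext x
    rw [Function.comp_apply, ← hv x ⟨φ x, hmem x⟩ rfl, ← congrFun hcon, Function.comp_apply]
    symm
    apply hv
    rw [conjME_coe]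
    exact hD x

/-- **Irreducible characters from a maximal Levi subgroup of type `A_m`.** -/
theorem exists_irr_chain (R : RGD cs h p T n X) (hG : GG cs h T X = ⊤) {m : ℕ} (hm : 3 ≤ m) (k : Fin m ↪ I)
    (hk : ∀ i j, M (k i) (k j) = cA m i j) {q : ℕ} (i₀ : Fin m) (hq : Nat.card (X (sr (k i₀))) = q)
    (hrev : ∀ w : W, Perm cs h (Set.range k) w → w ∉ WJ cs (Set.range k) →
      ∀ i, rep cs h w (sr (k i)) = sr (k (Fin.rev i))) :
    ∃ χ : Y → ℂ, IsIrrCharacter Y χ ∧ ∃ a e t : ℕ, 0 < a ∧ χ 1 = ((PJ cs h T X (Set.range k)).index * (a * e) : ℕ) ∧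
      e * t = ∏ i ∈ Finset.range m, (q ^ (i + 1) - 1) ∧ t ∣ Nat.gcd (m + 1) (q - 1) := by
  have : Fintype Y := Fintype.ofFinite Y
  obtain ⟨F, _, _, φ, C⟩ := exists_co R (by omega) k hk
  have hcard := C.card i₀
  rw [hq] at hcard
  obtain ⟨θ, e, t, hθ, he, het, ht, hns⟩ := exists_ns (cs := cs) (h := h) hm C hk
  rw [← hcard] at het ht
  obtain ⟨χ, hχ, a, ha, hχ1⟩ := H53.HC.exists_irr_MJ R hG (Set.range k) hθ.irr hθ.van (by
    intro w g hg hw hp
    by_contra hcon
    push Not at hcon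
    have hgn := H53.HC.rp_mem_normalizer_MJ R hg hp
    have hr := hrev w hp hw
    have hr' : ∀ i, rep cs h w⁻¹ (sr (k i)) = sr (k (Fin.rev i)) := by
      intro i
      have h1 := hr (Fin.rev i)
      rw [Fin.rev_rev] at h1
      rw [← h1, rep_inv_apply]
    refine hns g⁻¹ (inv_mem hgn) (fun i => ?_) (fun i => ?_) ?_
    · rw [R.conj_rp hg.inv (isRoot_sr cs h (k i)), hr']
    · rw [R.conj_rp hg.inv (isRoot_sr cs h (k i)).neg, map_neg, hr']
    · funext x
      rw [Function.comp_apply]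
      refine Eq.trans ?_ (hcon x x.2)
      congr 1
      apply Subtype.ext
      rw [conjME_coe, inv_inv])
  refine ⟨χ, hχ, a, e, t, ha, ?_, het, ht⟩
  rw [hχ1, he]
  push_cast
  ring

end final

/-! ### automorphisms of chains -/

/-- an injective walk with steps `±1` on `0, …, m - 1` of length `m` is monotone -/
theorem walk {m : ℕ} (hm : 2 ≤ m) (x : ℕ → ℤ) (hb : ∀ i < m, 0 ≤ x i ∧ x i < m)
    (hs : ∀ i, i + 1 < m → x (i + 1) - x i = 1 ∨ x (i + 1) - x i = -1) (hn : ∀ i, i + 2 < m → x (i + 2) ≠ x i) :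
    (∀ i < m, x i = i) ∨ ∀ i < m, x i = m - 1 - i := by
  rcases hs 0 (by omega) with h0 | h0
  · left
    have h1 : ∀ i, i + 1 < m → x (i + 1) - x i = 1 := by
      intro i
      induction i with
      | zero => intro _; exact h0
      | succ i ih =>
        intro hi
        have h2 := ih (by omega)
        have h3 := hn i hi
        rcases hs (i + 1) hi with h4 | h4
        · exact h4
        · exact absurd (by rw [show i + 2 = i + 1 + 1 by ring]; linarith) h3
    have h2 : ∀ i < m, x i = x 0 + i := by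
      intro i
      induction i with
      | zero => intro _; simp
      | succ i ih =>
        intro hi
        have h3 := ih (by omega)
        have h4 := h1 i hi
        push_cast
        linarith
    have h3 := h2 (m - 1) (by omega)
    have h4 := (hb (m - 1) (by omega)).2
    have h5 := (hb 0 (by omega)).1
    have h6 : ((m - 1 : ℕ) : ℤ) = (m : ℤ) - 1 := by
      rw [Nat.cast_sub (by omega), Nat.cast_one]
    intro i hi
    rw [h2 i hi]
    have : x 0 = 0 := by linarith
    rw [this, zero_add]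
  · right
    have h1 : ∀ i, i + 1 < m → x (i + 1) - x i = -1 := by
      intro i
      induction i with
      | zero => intro _; exact h0
      | succ i ih =>
        intro hi
        have h2 := ih (by omega)
        have h3 := hn i hi
        rcases hs (i + 1) hi with h4 | h4
        · exact absurd (by rw [show i + 2 = i + 1 + 1 by ring]; linarith) h3
        · exact h4
    have h2 : ∀ i < m, x i = x 0 - i := by
      intro i
      induction i with
      | zero => intro _; simp
      | succ i ih =>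
        intro hi
        have h3 := ih (by omega)
        have h4 := h1 i hi
        push_cast
        linarith
    have h3 := h2 (m - 1) (by omega)
    have h4 := (hb (m - 1) (by omega)).1
    have h5 := (hb 0 (by omega)).2
    have h6 : ((m - 1 : ℕ) : ℤ) = (m : ℤ) - 1 := by
      rw [Nat.cast_sub (by omega), Nat.cast_one]
    intro i hi
    rw [h2 i hi]
    have : x 0 = m - 1 := by linarith
    rw [this]

theorem sr_injective {i k : I} (hik : (sr i : I → ℤ) = sr k) : i = k := by
  by_contra hne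
  have := congrFun hik i
  rw [sr_self, sr_ne hne] at this
  exact one_ne_zero this

/-- **Elements permuting the simple roots of a chain** fix or reverse it. -/
theorem fix_or_rev [Finite W] {m : ℕ} (hm : 2 ≤ m) (k : Fin m ↪ I)
    (hA : ∀ i j : Fin m, A (k i) (k j) = -1 ↔ i.val + 1 = j.val ∨ j.val + 1 = i.val) {w : W}
    (hw : Perm cs h (Set.range k) w) :
    (∀ i, rep cs h w (sr (k i)) = sr (k i)) ∨ ∀ i, rep cs h w (sr (k i)) = sr (k (Fin.rev i)) := by
  have h1 : ∀ i : Fin m, ∃ i' : Fin m, rep cs h w (sr (k i)) = sr (k i') := by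
    intro i
    obtain ⟨_, ⟨i', rfl⟩, e⟩ := hw.2 (k i) ⟨i, rfl⟩
    exact ⟨i', e⟩
  choose π hπ using h1
  have hinj : Function.Injective π := by
    intro a b hab
    have h2 := hπ a
    rw [hab, ← hπ b] at h2
    have h3 : sr (k a) = (sr (k b) : I → ℤ) := by
      rw [← rep_inv_apply cs h w (sr (k a)), h2, rep_inv_apply]
    exact k.injective (sr_injective h3)
  have hadj : ∀ i j : Fin m, i.val + 1 = j.val → (π i).val + 1 = (π j).val ∨ (π j).val + 1 = (π i).val := by
    intro i j hij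
    rw [← hA, H53.HC.cartan_rep (hπ i) (hπ j), hA]
    exact Or.inl hij
  let x : ℕ → ℤ := fun i => if hi : i < m then ((π ⟨i, hi⟩).val : ℤ) else 0
  have hx : ∀ i (hi : i < m), x i = ((π ⟨i, hi⟩).val : ℤ) := fun i hi => dif_pos hi
  rcases walk hm x (fun i hi => by rw [hx i hi]; have := (π ⟨i, hi⟩).2; omega) (fun i hi => by
      rw [hx i (by omega), hx (i + 1) hi]
      rcases hadj ⟨i, by omega⟩ ⟨i + 1, hi⟩ rfl with h2 | h2 <;> omega) (fun i hi he => by
      rw [hx i (by omega), hx (i + 2) hi] at he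
      have h2 : π ⟨i + 2, hi⟩ = π ⟨i, by omega⟩ := Fin.ext (by exact_mod_cast he)
      have h3 := congrArg Fin.val (hinj h2)
      simp at h3) with h2 | h2
  · left
    intro i
    have h3 := h2 i i.2
    rw [hx i i.2] at h3
    have h4 : π i = i := Fin.ext (by exact_mod_cast h3)
    rw [hπ, h4]
  · right
    intro i
    have h3 := h2 i i.2
    rw [hx i i.2] at h3
    have h4 : π i = Fin.rev i := Fin.ext (by
      rw [Fin.val_rev]
      have h5 := i.2
      have h6 : ((π i).val : ℤ) = m - 1 - i := h3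
      omega)
    rw [hπ, h4]

end Cfsg.Agent.H582.Sq
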