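import Cfsg.Agent.H622.Levi.Semi

/-!
# Automorphisms of images of `SL_n(F)`, `n ≥ 3`, which reverse the root groups

The general form of `H622.Levi.exists_swap` (`n = 3`): an element `g` with `g φ(x_ab(s)) g⁻¹ = φ(x_{b' a'}(t))`,
`a' = rev a`, acts on the image of `SL_n(F)` as `x ↦ C (τ x)^{-T} C⁻¹`.
-/

set_option autoImplicit false
set_option linter.unusedSectionVars false

namespace Cfsg.Agent.H582.Sq

open Matrix
open Cfsg.Agent.TitsThree.KSideA (tv tv_of_ne tv_add tv_zero tv_neg tv_comm)
open Cfsg.Agent.H622.Levi (swapHom coe_swapHom)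
open scoped commutatorElement

section ring

variable {ι F : Type*} [Fintype ι] [DecidableEq ι] [Field F] [Finite F]

/-- Additive maps `f a b` with `f a c (s t) = f a b s * f b c t` are `d a * τ s * (d b)⁻¹`, `τ` an automorphism. -/
theorem exists_ringEquiv (hι : 3 ≤ Fintype.card ι) {f : ι → ι → F → F}
    (hadd : ∀ a b, a ≠ b → ∀ s t, f a b (s + t) = f a b s + f a b t)
    (hmul : ∀ a b c, a ≠ b → b ≠ c → a ≠ c → ∀ s t, f a c (s * t) = f a b s * f b c t)
    (hne : ∀ a b, a ≠ b → f a b 1 ≠ 0) :
    ∃ (τ : F ≃+* F) (d : ι → F), (∀ a, d a ≠ 0) ∧ ∀ a b, a ≠ b → ∀ t, f a b t = d a * τ t * (d b)⁻¹ := by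
  classical
  -- a third index
  have third : ∀ a b : ι, ∃ c, c ≠ a ∧ c ≠ b := by
    intro a b
    by_contra hcon
    push Not at hcon
    have h1 : (Finset.univ : Finset ι) ⊆ {a, b} := by
      intro c _
      by_cases hc : c = a
      · simp [hc]
      · simp [hcon c hc]
    have h2 := (Finset.card_le_card h1).trans Finset.card_le_two
    rw [Finset.card_univ] at h2
    omega
  -- normalized maps
  let g : ι → ι → F → F := fun a b t => f a b t * (f a b 1)⁻¹
  have hg : ∀ a b t, a ≠ b → f a b t = f a b 1 * g a b t := by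
    intro a b t hab
    have := hne a b hab
    simp only [g]
    field_simp
  have hL : ∀ a b c, a ≠ b → b ≠ c → a ≠ c → ∀ t, g a c t = g b c t := by
    intro a b c hab hbc hac t
    have h1 := hmul a b c hab hbc hac 1 t
    have h2 := hmul a b c hab hbc hac 1 1
    rw [one_mul] at h1
    rw [mul_one] at h2
    simp only [g]
    rw [h1, h2]
    have e1 := hne a b hab
    have e2 := hne b c hbc
    field_simp
  have hR : ∀ a b c, a ≠ b → b ≠ c → a ≠ c → ∀ t, g a c t = g a b t := by
    intro a b c hab hbc hac t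
    have h1 := hmul a b c hab hbc hac t 1
    have h2 := hmul a b c hab hbc hac 1 1
    rw [mul_one] at h1 h2
    simp only [g]
    rw [h1, h2]
    have e1 := hne a b hab
    have e2 := hne b c hbc
    field_simp
  -- the base pair
  obtain ⟨o, o', hoo⟩ : ∃ o o' : ι, o ≠ o' := by
    have h1 : 1 < Fintype.card ι := by omega
    obtain ⟨o, o', h2⟩ := Fintype.exists_pair_of_one_lt_card h1
    exact ⟨o, o', h2⟩
  have hall : ∀ a b, a ≠ b → ∀ t, g a b t = g o o' t := by
    have step : ∀ a b c, a ≠ b → a ≠ c → ∀ t, g a b t = g a c t := by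
      intro a b c hab hac t
      by_cases hbc : b = c
      · rw [hbc]
      · exact hR a c b hac (Ne.symm hbc) hab t
    have step' : ∀ a b c, a ≠ c → b ≠ c → ∀ t, g a c t = g b c t := by
      intro a b c hac hbc t
      by_cases hab : a = b
      · rw [hab]
      · exact hL a b c hab hbc hac t
    intro a b hab t
    by_cases hbo : b = o
    · subst hbo
      obtain ⟨c, hca, hco⟩ := third a b
      rw [step a b c hab hca.symm]
      rw [step' a b c hca.symm hco.symm]
      exact step b c o' hco.symm hoo t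
    · rw [step' a o b hab (Ne.symm hbo)]
      exact step o b o' (Ne.symm hbo) hoo t
  have hmulc : ∀ a b c, a ≠ b → b ≠ c → a ≠ c → f a c 1 = f a b 1 * f b c 1 := by
    intro a b c hab hbc hac
    have h2 := hmul a b c hab hbc hac 1 1
    rwa [mul_one] at h2
  obtain ⟨o'', h1o, h2o⟩ := third o o'
  let τ₀ : F →+* F :=
    { toFun := g o o'
      map_one' := mul_inv_cancel₀ (hne o o' hoo)
      map_zero' := by
        have h1 := hadd o o' hoo 0 0
        rw [add_zero] at h1
        have h2 : f o o' 0 = 0 := by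
          have : f o o' 0 + 0 = f o o' 0 + f o o' 0 := by rw [add_zero]; exact h1
          exact (add_left_cancel this).symm
        simp only [g]
        rw [h2, zero_mul]
      map_add' := fun s t => by
        simp only [g]
        rw [hadd o o' hoo, add_mul]
      map_mul' := fun s t => by
        have h1 := hmul o o'' o' h1o.symm h2o hoo s t
        rw [hg o o' _ hoo, hg o o'' _ h1o.symm, hg o'' o' _ h2o, hall o o'' h1o.symm, hall o'' o' h2o,
          hmulc o o'' o' h1o.symm h2o hoo] at h1
        have e1 := hne o o'' h1o.symm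
        have e2 := hne o'' o' h2o
        have h2 : (f o o'' 1 * f o'' o' 1) * g o o' (s * t) = (f o o'' 1 * f o'' o' 1) * (g o o' s * g o o' t) := by
          rw [h1]; ring
        exact mul_left_cancel₀ (mul_ne_zero e1 e2) h2 }
  have hbij : Function.Bijective τ₀ := Finite.injective_iff_bijective.1 τ₀.injective
  let τ : F ≃+* F := RingEquiv.ofBijective τ₀ hbij
  have hτ : ∀ s, τ s = g o o' s := fun s => rfl
  have hinv : ∀ a, a ≠ o → f o a 1 * f a o 1 = 1 := by
    intro a hao
    obtain ⟨c, hca, hco⟩ := third a o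
    have h1 := hmulc c o a hco hao.symm hca
    have h2 := hmulc c a o hca hao hco
    rw [h2] at h1
    have h3 := hne c a hca
    have h4 : f c a 1 * (f o a 1 * f a o 1) = f c a 1 * 1 := by
      rw [mul_one]
      nth_rewrite 2 [h1]
      ring
    exact mul_left_cancel₀ h3 h4
  refine ⟨τ, fun a => if a = o then 1 else f a o 1, ?_, ?_⟩
  · intro a
    by_cases h : a = o
    · simp [h]
    · simp only [if_neg h]
      exact hne a o h
  · intro a b hab t
    rw [hg a b t hab, hall a b hab t, hτ]
    by_cases ha : a = o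
    · subst ha
      have hb : b ≠ a := hab.symm
      simp only [if_true, if_neg hb, one_mul]
      have h1 := hinv b hb
      have h2 := hne b a hb
      have h3 : f a b 1 = (f b a 1)⁻¹ := eq_inv_of_mul_eq_one_left h1
      rw [h3]
      ring
    · by_cases hb : b = o
      · subst hb
        simp only [if_true, if_neg ha, inv_one, mul_one]
      · simp only [if_neg ha, if_neg hb]
        rw [hmulc a b o hab hb ha]
        have h2 := hne b o hb
        field_simp

end ring

section swap

variable {n : ℕ} {F : Type*} [Field F]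

/-- the monomial matrix of the swap -/
def swapC (d : Fin n → F) (hd : ∀ a, d a ≠ 0) : GL (Fin n) F where
  val := Matrix.of fun i j => if j = Fin.rev i then (d j)⁻¹ else 0
  inv := Matrix.of fun i j => if j = Fin.rev i then d i else 0
  val_inv := by
    ext i j
    rw [Matrix.mul_apply, Finset.sum_eq_single (Fin.rev i)]
    · simp only [Matrix.of_apply, if_true, Fin.rev_rev, Matrix.one_apply]
      by_cases hij : i = j
      · subst hij
        simp [hd]
      · rw [if_neg (fun h => hij h.symm), if_neg hij, mul_zero]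
    · intro b _ hb
      simp [hb]
    · intro h
      exact absurd (Finset.mem_univ _) h
  inv_val := by
    ext i j
    rw [Matrix.mul_apply, Finset.sum_eq_single (Fin.rev i)]
    · simp only [Matrix.of_apply, if_true, Fin.rev_rev, Matrix.one_apply]
      by_cases hij : i = j
      · subst hij
        simp [hd]
      · rw [if_neg (fun h => hij h.symm), if_neg hij, mul_zero]
    · intro b _ hb
      simp [hb]
    · intro h
      exact absurd (Finset.mem_univ _) h

theorem swapC_val (d : Fin n → F) (hd : ∀ a, d a ≠ 0) (i j : Fin n) :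
    (swapC d hd : Matrix (Fin n) (Fin n) F) i j = if j = Fin.rev i then (d j)⁻¹ else 0 := rfl

theorem swapC_inv (d : Fin n → F) (hd : ∀ a, d a ≠ 0) (i j : Fin n) :
    (((swapC d hd)⁻¹ : GL (Fin n) F) : Matrix (Fin n) (Fin n) F) i j = if j = Fin.rev i then d i else 0 := rfl

theorem val_tv {a b : Fin n} (hab : a ≠ b) (s : F) : (tv a b s : Matrix.SpecialLinearGroup (Fin n) F).1 =
    1 + Matrix.single a b s := by
  rw [tv_of_ne hab]
  rfl

theorem map_tv {a b : Fin n} (hab : a ≠ b) (s : F) (τ : F ≃+* F) :
    ((tv a b s : Matrix.SpecialLinearGroup (Fin n) F).1).map τ = 1 + Matrix.single a b (τ s) := by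
  rw [val_tv hab]
  ext i j
  simp only [Matrix.map_apply, Matrix.add_apply, map_add, Matrix.one_apply, Matrix.single_apply, apply_ite τ, map_one,
    map_zero]

/-- conjugation by the monomial matrix -/
theorem swapC_conj (d : Fin n → F) (hd : ∀ a, d a ≠ 0) (m : Matrix (Fin n) (Fin n) F) (i j : Fin n) :
    ((swapC d hd : Matrix (Fin n) (Fin n) F) * m * (((swapC d hd)⁻¹ : GL (Fin n) F) : Matrix (Fin n) (Fin n) F)) i j =
      (d (Fin.rev i))⁻¹ * m (Fin.rev i) (Fin.rev j) * d (Fin.rev j) := by
  rw [Matrix.mul_apply, Finset.sum_eq_single (Fin.rev j)]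
  · rw [swapC_inv, Fin.rev_rev, if_pos rfl, Matrix.mul_apply, Finset.sum_eq_single (Fin.rev i)]
    · rw [swapC_val, if_pos rfl]
    · intro b _ hb
      rw [swapC_val, if_neg hb, zero_mul]
    · intro h
      exact absurd (Finset.mem_univ _) h
  · intro b _ hb
    rw [swapC_inv, if_neg, mul_zero]
    rintro rfl
    exact hb (Fin.rev_rev b).symm
  · intro h
    exact absurd (Finset.mem_univ _) h

theorem swapHom_tv (d : Fin n → F) (hd : ∀ a, d a ≠ 0) (τ : F ≃+* F) {a b : Fin n} (hab : a ≠ b) (s : F) :
    swapHom (swapC d hd) τ (tv a b s) = tv (Fin.rev b) (Fin.rev a) (-(d a * τ s * (d b)⁻¹)) := by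
  have hab' : Fin.rev b ≠ Fin.rev a := fun h => hab (Fin.rev_injective h).symm
  apply Subtype.ext
  rw [coe_swapHom, ← tv_neg, val_tv hab', map_tv hab, map_neg]
  ext i j
  rw [swapC_conj, Matrix.transpose_apply]
  simp only [Matrix.add_apply, Matrix.one_apply, Matrix.single_apply]
  have hi := hd (Fin.rev i)
  by_cases hij : i = j
  · subst hij
    have e1 : ¬ (a = Fin.rev i ∧ b = Fin.rev i) := fun h => hab (h.1.trans h.2.symm)
    have e2 : ¬ (Fin.rev b = i ∧ Fin.rev a = i) := fun h => hab' (h.1.trans h.2.symm)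
    rw [if_pos rfl, if_neg e1, if_pos rfl, if_neg e2]
    field_simp
  · have hij' : Fin.rev j ≠ Fin.rev i := fun h => hij (Fin.rev_injective h).symm
    rw [if_neg hij', if_neg hij]
    by_cases hc : a = Fin.rev j ∧ b = Fin.rev i
    · have hc' : Fin.rev b = i ∧ Fin.rev a = j := ⟨by rw [hc.2, Fin.rev_rev], by rw [hc.1, Fin.rev_rev]⟩
      rw [if_pos hc, if_pos hc', hc.1, hc.2]
      ring
    · have hc' : ¬ (Fin.rev b = i ∧ Fin.rev a = j) := fun h => hc ⟨by rw [← h.2, Fin.rev_rev], by rw [← h.1, Fin.rev_rev]⟩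
      rw [if_neg hc, if_neg hc']
      ring

/-! ### the automorphisms -/

variable [Finite F] {Y : Type*} [Group Y] {φ : Matrix.SpecialLinearGroup (Fin n) F →* Y}

theorem hom_ext_tv [Nontrivial (Fin n)] {α β : Matrix.SpecialLinearGroup (Fin n) F →* Y}
    (h : ∀ a b : Fin n, a ≠ b → ∀ s : F, α (tv a b s) = β (tv a b s)) : α = β := by
  ext x
  refine Cfsg.Agent.LieClassical.SLGen.transvection_induction (fun x => α x = β x) ?_ ?_ x
  · intro a b hab s
    have := h a b hab s
    rwa [tv_of_ne hab] at this
  · intro x y hx hy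
    rw [map_mul, map_mul, hx, hy]

/-- **Elements which reverse the root groups.** -/
theorem exists_swap (hn : 3 ≤ n) (hinj : ∀ a b : Fin n, a ≠ b → Function.Injective fun t : F => φ (tv a b t)) {g : Y}
    (hg : ∀ a b : Fin n, a ≠ b → ∀ s : F, ∃ t : F, g * φ (tv a b s) * g⁻¹ = φ (tv (Fin.rev b) (Fin.rev a) t)) :
    ∃ (τ : F ≃+* F) (C : GL (Fin n) F), ∀ x, g * φ x * g⁻¹ = φ (swapHom C τ x) := by
  have : Nontrivial (Fin n) := Fin.nontrivial_iff_two_le.2 (by omega)
  choose! f hf using hg
  have hrev : ∀ {a b : Fin n}, a ≠ b → Fin.rev b ≠ Fin.rev a := fun hab h => hab (Fin.rev_injective h).symm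
  obtain ⟨τ, d, hd, hτ⟩ := exists_ringEquiv (by rw [Fintype.card_fin]; exact hn) (f := fun a b s => -f a b s) (by
      intro a b hab s t
      have h1 := hf a b hab (s + t)
      rw [tv_add, map_mul] at h1
      have h2 : g * (φ (tv a b s) * φ (tv a b t)) * g⁻¹ = (g * φ (tv a b s) * g⁻¹) * (g * φ (tv a b t) * g⁻¹) := by
        group
      rw [h2, hf a b hab, hf a b hab, ← map_mul, ← tv_add] at h1
      change -f a b (s + t) = -f a b s + -f a b t
      rw [← hinj _ _ (hrev hab) h1]
      ring) (by
      intro a b c hab hbc hac s t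
      have h1 := hf a c hac (s * t)
      rw [← tv_comm hab hbc hac, map_commutatorElement, conjugate_commutatorElement] at h1
      rw [hf a b hab, hf b c hbc, ← map_commutatorElement, ← commutatorElement_inv,
        tv_comm (hrev hbc) (hrev hab) (hrev hac), ← tv_neg] at h1
      change -f a c (s * t) = -f a b s * -f b c t
      rw [← hinj _ _ (hrev hac) h1]
      ring) (by
      intro a b hab h0
      have h1 := hf a b hab 1
      rw [neg_eq_zero.1 h0, tv_zero, map_one, mul_inv_eq_one, mul_eq_left, ← map_one φ, ← tv_zero a b] at h1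
      exact one_ne_zero (hinj a b hab h1))
  refine ⟨τ, swapC d hd, fun x => ?_⟩
  have h1 : (MulAut.conj g).toMonoidHom.comp φ = φ.comp (swapHom (swapC d hd) τ) := by
    refine hom_ext_tv fun a b hab s => ?_
    rw [MonoidHom.comp_apply, MonoidHom.comp_apply, swapHom_tv d hd τ hab]
    change g * φ (tv a b s) * g⁻¹ = _
    rw [hf a b hab, ← hτ a b hab s, neg_neg]
  exact DFunLike.congr_fun h1 x

end swap

end Cfsg.Agent.H582.Sq
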